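import Groth.Agent.CycCovRam.Conj

/-! # Bases of normalised Kummer algebras -/

set_option autoImplicit false

universe u

open Polynomial

noncomputable section

namespace Groth.Agent.CycCovDec

open Groth.Agent.CycPic Groth.Agent.CycCovRam

variable {B : Type u} [CommRing B] [IsDomain B] [IsIntegrallyClosed B] {N : ℕ} {a T₀ ζ : B}

theorem coeff_mem_range (hN : 0 < N) (hNu : IsUnit (N : B)) (hζ : IsPrimitiveRoot ζ N) (hT0 : T₀ ≠ 0)
    (hT : (Ideal.span {T₀}).IsRadical) {τ : B} (c : Fin N → FractionRing B) (i : Fin N)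
    (hhigh : a ^ (i : ℕ) * T₀ ∣ τ ^ N * T₀ ^ N)
    (hx : IsIntegral B (Kum.mk (algebraMap B (FractionRing B) a) c)) :
    c i * algebraMap B (FractionRing B) τ ∈ (algebraMap B (FractionRing B)).range := by
  let K := FractionRing B
  let a' : K := algebraMap B K a
  let A := Kum K N a'
  have hz : IsPrimitiveRoot (algebraMap B K ζ) N := hζ.map_of_injective (IsFractionRing.injective B K)
  have hσB : ∀ j (b : B), conj (a := a') hz j (algebraMap B A b) = algebraMap B A b := fun j b =>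
    conj_of hz j _
  have hint : IsIntegral B (∑ j ∈ Finset.range N,
      AdjoinRoot.of (X ^ N - C a') (algebraMap B K ζ ^ (j * (N - i.1))) * conj hz j (Kum.mk a' c)) := by
    refine IsIntegral.sum _ fun j _ => IsIntegral.mul ?_ ?_
    · rw [← map_pow]
      exact isIntegral_algebraMap
    · exact hx.map ({ conj (a := a') hz j with commutes' := hσB j } : A →ₐ[B] A)
  rw [sum_conj] at hint
  have h2 := hint.pow (R := B) N
  rw [mul_pow, ← map_pow, pow_right_comm, Kum.root_pow, ← map_pow, ← map_mul] at h2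
  haveI : Nontrivial A := AdjoinRoot.nontrivial _ (by
    rw [degree_X_pow_sub_C hN]; exact_mod_cast hN.ne')
  have h3 : IsIntegral B (((N : K) * c i) ^ N * a' ^ (i : ℕ)) :=
    (isIntegral_algebraMap_iff (algebraMap K A).injective).1 h2
  obtain ⟨z₀, hz₀⟩ := IsIntegrallyClosed.algebraMap_eq_of_integral h3
  obtain ⟨d, hd⟩ := hhigh
  have hv : ((N : K) * c i * algebraMap B K (τ * T₀)) ^ N = algebraMap B K (T₀ * (z₀ * d)) := by
    rw [mul_pow, ← map_pow, mul_pow τ, hd]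
    simp only [map_mul, map_pow, hz₀, a']
    ring
  obtain ⟨y, hy⟩ := IsIntegrallyClosed.algebraMap_eq_of_integral
    (IsIntegral.of_pow (R := B) hN (hv ▸ isIntegral_algebraMap (x := T₀ * (z₀ * d))))
  have hyt : y ∈ Ideal.span {T₀} := hT ⟨N, Ideal.mem_span_singleton.2 ⟨z₀ * d, IsFractionRing.injective B K (by
    rw [map_pow, hy, hv])⟩⟩
  obtain ⟨y₁, rfl⟩ := Ideal.mem_span_singleton.1 hyt
  refine ⟨y₁ * ↑hNu.unit⁻¹, mul_right_cancel₀ ((map_ne_zero_iff _ (IsFractionRing.injective B K)).2 hT0)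
    (mul_right_cancel₀ (hNu.map (algebraMap B K)).ne_zero ?_)⟩
  rw [← map_mul, ← map_mul, show y₁ * ↑hNu.unit⁻¹ * T₀ * (N : B) = T₀ * y₁ * (↑hNu.unit⁻¹ * (N : B)) by ring,
    IsUnit.val_inv_mul, mul_one, hy, map_natCast, map_mul]
  ring

theorem exists_basis {A : Type u} [CommRing A]
    (hN : 0 < N) (hNu : IsUnit (N : B)) (hT0 : T₀ ≠ 0) (hT : (Ideal.span {T₀}).IsRadical)
    (hζ : IsPrimitiveRoot ζ N) (ψ : Kum B N a →+* A) (hinj : Function.Injective ψ)
    (hint : ∀ c, (ψ.comp (AdjoinRoot.of _)).IsIntegralElem c)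
    (htf : ∀ (b : B) (c : A), b ≠ 0 → ψ (AdjoinRoot.of _ b) * c = 0 → c = 0)
    (hfrac : ∀ c, ∃ (b : B) (p : Kum B N a), b ≠ 0 ∧ ψ (AdjoinRoot.of _ b) * c = ψ p)
    (hdiv : ∀ (b y : A) (n : ℕ), 0 < n → b ^ n ∣ y ^ n → b ∣ y)
    (τ : Fin N → B) (hτ : ∀ i, τ i ≠ 0) (hlow : ∀ i : Fin N, τ i ^ N ∣ a ^ (i : ℕ))
    (hhigh : ∀ i : Fin N, a ^ (i : ℕ) * T₀ ∣ τ i ^ N * T₀ ^ N) :
    ∃ E : Fin N → A, (∀ i : Fin N, ψ (AdjoinRoot.root _) ^ (i : ℕ) = ψ (AdjoinRoot.of _ (τ i)) * E i) ∧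
      Function.Bijective (fun z : Fin N → B => ∑ i, ψ (AdjoinRoot.of _ (z i)) * E i) := by
  classical
  let ι : B →+* A := ψ.comp (AdjoinRoot.of _)
  let T : A := ψ (AdjoinRoot.root _)
  have hE : ∀ i : Fin N, ι (τ i) ∣ T ^ (i : ℕ) := fun i => hdiv _ _ N hN (by
    rw [pow_right_comm, ← map_pow ψ, Kum.root_pow, ← map_pow ι]
    show ι _ ∣ ι a ^ (i : ℕ)
    rw [← map_pow]
    exact map_dvd ι (hlow i))
  choose E hE using hE
  have hcan : ∀ (b : B) (x y : A), b ≠ 0 → ι b * x = ι b * y → x = y := fun b x y hb h =>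
    sub_eq_zero.1 (htf b _ hb (by rw [mul_sub, sub_eq_zero]; exact h))
  refine ⟨E, hE, fun z z' h => ?_, ?_⟩
  · have hmul : ∀ z : Fin N → B, ι (∏ l, τ l) * (∑ i, ι (z i) * E i) =
        ψ (Kum.mk a fun i : Fin N => z i * ∏ l ∈ Finset.univ.erase i, τ l) := fun z => by
      rw [Kum.mk, map_sum, Finset.mul_sum]
      refine Finset.sum_congr rfl fun i _ => ?_
      rw [map_mul ψ, map_pow ψ]
      show _ = ι _ * T ^ (i : ℕ)
      rw [hE, ← Finset.mul_prod_erase _ τ (Finset.mem_univ i), map_mul, map_mul]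
      ring
    have h1 := hinj ((hmul z).symm.trans ((congrArg (ι (∏ l, τ l) * ·) h).trans (hmul z')))
    funext i
    have h2 := congrArg (fun x => Kum.cf hN x i) h1
    simp only [Kum.cf_mk] at h2
    exact mul_right_cancel₀ (Finset.prod_ne_zero_iff.2 fun l _ => hτ l) h2
  · show ∀ x, ∃ z : Fin N → B, (∑ i, ι (z i) * E i) = x
    intro x
    obtain ⟨b, p, hb, hbp⟩ := hfrac x
    obtain ⟨P, hP, hPx⟩ := hint x
    let K := FractionRing B
    let a' : K := algebraMap B K a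
    have h0 : eval₂ (AdjoinRoot.of _) p (P.scaleRoots b) = 0 := by
      refine hinj ?_
      rw [hom_eval₂, map_zero, ← hbp, ← RingHom.comp_apply, scaleRoots_eval₂_mul, hPx, mul_zero]
    let Φ : Kum B N a →+* Kum K N a' := Kum.lift ((AdjoinRoot.of _).comp (algebraMap B K)) (AdjoinRoot.root _)
      (Kum.root_pow N a')
    have hΦ : ∀ r, Φ (AdjoinRoot.of _ r) = AdjoinRoot.of _ (algebraMap B K r) := fun r => Kum.lift_of _ _ _ _
    have hb' : algebraMap B K b ≠ 0 := fun h => hb (IsFractionRing.injective B K (h.trans (map_zero _).symm))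
    let y : Kum K N a' := AdjoinRoot.of _ (algebraMap B K b)⁻¹ * Φ p
    have hy : IsIntegral B y := by
      refine ⟨P, hP, ?_⟩
      have h1 := congrArg Φ h0
      have hcomp : Φ.comp (AdjoinRoot.of _) = algebraMap B (Kum K N a') := RingHom.ext hΦ
      rw [hom_eval₂, map_zero, hcomp] at h1
      have h2 : Φ p = algebraMap B (Kum K N a') b * y := by
        show _ = AdjoinRoot.of _ (algebraMap B K b) * (AdjoinRoot.of _ (algebraMap B K b)⁻¹ * Φ p)
        rw [← mul_assoc, ← map_mul, mul_inv_cancel₀ hb', map_one, one_mul]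
      rw [h2, scaleRoots_eval₂_mul] at h1
      refine (IsUnit.mul_right_eq_zero ?_).1 h1
      exact (((isUnit_iff_ne_zero.2 hb').map (AdjoinRoot.of (X ^ N - C a'))).pow _)
    have hpc : y = Kum.mk a' (fun k => (algebraMap B K b)⁻¹ * algebraMap B K (Kum.cf hN p k)) := by
      show AdjoinRoot.of _ (algebraMap B K b)⁻¹ * Φ p = _
      conv_lhs => rw [← Kum.mk_cf hN p]
      rw [Kum.mk, Kum.mk, map_sum, Finset.mul_sum]
      refine Finset.sum_congr rfl fun k _ => ?_
      rw [map_mul, map_pow, hΦ, Kum.lift_root, map_mul, mul_assoc]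
    rw [hpc] at hy
    choose z hz using fun k => coeff_mem_range hN hNu hζ hT0 hT _ k (hhigh k) hy
    have hz' : ∀ k : Fin N, b * z k = Kum.cf hN p k * τ k := fun k =>
      IsFractionRing.injective B K (by
        rw [map_mul, hz k, map_mul, ← mul_assoc, ← mul_assoc, mul_inv_cancel₀ hb', one_mul])
    refine ⟨z, hcan b _ _ hb ?_⟩
    show _ = ψ (AdjoinRoot.of _ b) * x
    rw [hbp]
    conv_rhs => rw [← Kum.mk_cf hN p, Kum.mk, map_sum]
    simp only [Finset.mul_sum]
    refine Finset.sum_congr rfl fun k _ => ?_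
    rw [map_mul ψ, map_pow ψ]
    show _ = ι (Kum.cf hN p k) * T ^ (k : ℕ)
    rw [hE, ← mul_assoc, ← mul_assoc, ← map_mul, ← map_mul, hz' k]

end Groth.Agent.CycCovDec
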