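import Groth.Agent.CycCovDec.Alg
import Groth.Agent.CycCovRam.Main

/-! # Local bases for the normalised cyclic cover -/

set_option autoImplicit false
set_option linter.style.haveILetI false
set_option backward.isDefEq.respectTransparency false

universe u

open CategoryTheory AlgebraicGeometry Opposite TopologicalSpace

noncomputable section

namespace Groth.Agent.CycCovDec

open Groth.Agent.QCoh Groth.Agent.Props.GenLocus Groth.Agent.Props.GenTensor Groth.Agent.CycPic Groth.Agent.CycCovEt Groth.Agent.CycCovRam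

variable {X Y : Scheme.{u}} [IsIntegral X] {L : X.Modules} {N : ℕ}
  {s : Coh.structureModule X ⟶ CohB1.tensorPow L N} {π : Y ⟶ X}

/-- A frame with a basis of the functions upstairs. -/
structure Good (R : CycCov.Root L N s π) {r : ℕ} (D : Fin r → X.IdealSheafData) (α : Fin r → ℕ) (V : X.affineOpens) where
  /-- the frame -/
  e : Γ(L, V.1)
  he : Props.GenLocus.IsGen L V.1 e
  /-- equations of the integral parts -/
  τ : Fin N → Γ(X, V.1)
  hτ : ∀ i, τ i ≠ 0
  hI : ∀ i : Fin N, (CycCov.floorIdeal D α N i).ideal V = Ideal.span {τ i}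
  /-- the basis -/
  E : Fin N → Γ(Y, π ⁻¹ᵁ V.1)
  hE : ∀ i : Fin N, R.t V e (isGen_prelude he) ^ (i : ℕ) = (π.app V.1).hom (τ i) * E i
  bij : Function.Bijective (fun z : Fin N → Γ(X, V.1) => ∑ i, (π.app V.1).hom (z i) * E i)
  htf : ∀ (b : Γ(X, V.1)) (c : Γ(Y, π ⁻¹ᵁ V.1)), b ≠ 0 → (π.app V.1).hom b * c = 0 → c = 0

lemma isRadical_prod_X {K : Type u} [CommRing K] [IsDomain K] {n : ℕ} (S : Finset (Fin n)) :
    (Ideal.span {∏ i ∈ S, (MvPolynomial.X i : MvPolynomial (Fin n) K)}).IsRadical := by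
  classical
  induction S using Finset.induction_on with
  | empty => rw [Finset.prod_empty, Ideal.span_singleton_one]; exact fun _ _ => trivial
  | insert a S ha ih =>
    rintro z ⟨M, hM⟩
    rw [Finset.prod_insert ha, Ideal.mem_span_singleton] at hM ⊢
    have hp : Prime (MvPolynomial.X a : MvPolynomial (Fin n) K) := MvPolynomial.X_prime
    obtain ⟨w, hw⟩ := Ideal.mem_span_singleton.1 (ih (show z ∈ (Ideal.span {∏ i ∈ S, (MvPolynomial.X i : MvPolynomial (Fin n) K)}).radical from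
      ⟨M, Ideal.mem_span_singleton.2 ((dvd_mul_left _ _).trans hM)⟩))
    have hz : (MvPolynomial.X a : MvPolynomial (Fin n) K) ∣ (∏ i ∈ S, MvPolynomial.X i) * w :=
      hw ▸ hp.dvd_of_dvd_pow ((dvd_mul_right _ _).trans hM)
    rcases hp.dvd_or_dvd hz with h | h
    · obtain ⟨i, hi, hdi⟩ := hp.exists_mem_finset_dvd h
      exact absurd (MvPolynomial.X_dvd_X.1 hdi) (fun h' => ha (h' ▸ hi))
    · rw [hw, mul_comm (MvPolynomial.X a : MvPolynomial (Fin n) K)]
      exact mul_dvd_mul_left _ h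

theorem chart_props' (hN : 0 < N) {R : CycCov.Root L N s π} (hR : CycCov.IsCover R)
    (U : X.affineOpens) [Nonempty U.1] (e : Γ(L, U.1)) (he : Props.GenLocus.IsGen L U.1 e) (f : Γ(X, U.1))
    (hf : SecTwist.val s U.1 = f • CycCov.lpow L U.1 e N) :
    ∃ ψ : Kum Γ(X, U.1) N f →+* Γ(Y, π ⁻¹ᵁ U.1), (ψ = CycCov.chart R U e (isGen_prelude he) f hf) ∧ Function.Injective ψ ∧
      (∀ r, ψ (AdjoinRoot.of _ r) = (π.app U.1).hom r) ∧
      ψ (AdjoinRoot.root _) = R.t U e (isGen_prelude he) ∧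
      (∀ (b : Γ(X, U.1)) (c : Γ(Y, π ⁻¹ᵁ U.1)), b ≠ 0 → ψ (AdjoinRoot.of _ b) * c = 0 → c = 0) ∧
      (∀ c, ∃ (b : Γ(X, U.1)) (p : Kum Γ(X, U.1) N f), b ≠ 0 ∧ ψ (AdjoinRoot.of _ b) * c = ψ p) := by
  obtain ⟨hfin, hnY, W₀, hdX, hdY, hW₀⟩ := hR
  haveI := hfin
  haveI : ∀ y : Y, _root_.IsReduced (Y.presheaf.stalk y) := fun y => by
    haveI := (hnY y).1
    infer_instance
  haveI : AlgebraicGeometry.IsReduced Y := isReduced_of_isReduced_stalk Y
  let ψ : Kum Γ(X, U.1) N f →+* Γ(Y, π ⁻¹ᵁ U.1) := CycCov.chart R U e (isGen_prelude he) f hf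
  have hψof : ∀ r, ψ (AdjoinRoot.of _ r) = (π.app U.1).hom r := fun r => AdjoinRoot.lift_of _
  -- non-zero functions on `U` are non-zero-divisors upstairs
  have htf : ∀ (b : Γ(X, U.1)) (c : Γ(Y, π ⁻¹ᵁ U.1)), b ≠ 0 → ψ (AdjoinRoot.of _ b) * c = 0 → c = 0 := by
    intro b c hb hbc
    rw [hψof] at hbc
    rw [← basicOpen_eq_bot_iff]
    by_contra hne
    obtain ⟨y, hyW, hyc⟩ := hdY.exists_mem_open (Y.basicOpen c).2
      ((Opens.coe_eq_empty.not.2 hne) |> Set.nonempty_iff_ne_empty.2)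
    obtain ⟨g, hgW, hyg⟩ := U.2.exists_basicOpen_le (V := W₀) ⟨π y, hyW⟩ (Y.basicOpen_le c hyc)
    haveI : Nonempty (X.basicOpen g) := ⟨⟨π y, hyg⟩⟩
    let V : X.affineOpens := ⟨X.basicOpen g, U.2.basicOpen g⟩
    obtain ⟨ψ', hψ', hψ'of, -⟩ := exists_chart_res R hW₀ U e he f hf V (X.basicOpen_le g) hgW
    obtain ⟨p, hp⟩ := hψ'.2 ((Y.presheaf.map (homOfLE (π.preimage_mono (X.basicOpen_le g))).op).hom c)
    have h1 : ψ' (AdjoinRoot.of _ ((X.presheaf.map (homOfLE (X.basicOpen_le g)).op).hom b) * p) = ψ' 0 := by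
      rw [map_mul, map_zero, hψ'of, hp,
        show (π.app V.1).hom ((X.presheaf.map (homOfLE (X.basicOpen_le g)).op).hom b) =
          (Y.presheaf.map (homOfLE (π.preimage_mono (X.basicOpen_le g))).op).hom ((π.app U.1).hom b) from
          congrArg (fun φ => φ.hom b) (π.naturality (homOfLE (X.basicOpen_le g)).op),
        ← map_mul, hbc, map_zero]
    have h2 := hψ'.1 h1
    have h3 : p = 0 := Kum.ext hN fun k => by
      have h4 : Kum.cf hN _ k = Kum.cf hN (0 : Kum Γ(X, V.1) N ((X.presheaf.map (homOfLE (X.basicOpen_le g)).op).hom f)) k :=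
        congrArg (fun q => Kum.cf hN q k) h2
      erw [Kum.cf_of_mul] at h4
      have h5 : Kum.cf hN (0 : Kum Γ(X, V.1) N ((X.presheaf.map (homOfLE (X.basicOpen_le g)).op).hom f)) k = 0 := by
        simp [Kum.cf]
      rw [h5] at h4 ⊢
      refine (mul_eq_zero.1 h4).resolve_left fun h6 => hb (res_injective (X.basicOpen_le g) (h6.trans (map_zero _).symm))
    rw [h3, map_zero] at hp
    have h7 : y ∈ Y.basicOpen ((Y.presheaf.map (homOfLE (π.preimage_mono (X.basicOpen_le g))).op).hom c) := by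
      rw [Scheme.basicOpen_res]
      exact ⟨hyg, hyc⟩
    rw [← hp, Scheme.basicOpen_zero] at h7
    exact h7
  -- a chart of the simple cover inside `U`
  obtain ⟨x, hxW, hxU⟩ := hdX.exists_mem_open U.1.2 (Set.nonempty_coe_sort.1 ‹Nonempty U.1›)
  obtain ⟨g, hgW, hxg⟩ := U.2.exists_basicOpen_le (V := W₀) ⟨x, hxW⟩ hxU
  haveI : Nonempty (X.basicOpen g) := ⟨⟨x, hxg⟩⟩
  have hg0 : g ≠ 0 := by
    rintro rfl
    rw [Scheme.basicOpen_zero] at hxg
    exact hxg
  let V : X.affineOpens := ⟨X.basicOpen g, U.2.basicOpen g⟩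
  have hle : V.1 ≤ U.1 := X.basicOpen_le g
  obtain ⟨ψ', hψ', -, hcomm⟩ := exists_chart_res R hW₀ U e he f hf V hle hgW
  have hψinj : Function.Injective ψ := by
    refine (injective_iff_map_eq_zero _).2 fun p hp => ?_
    have h1 : mapK (X.presheaf.map (homOfLE hle).op).hom N f p = 0 := by
      refine hψ'.1 ?_
      rw [← hcomm, map_zero]
      exact (congrArg _ hp).trans (map_zero _)
    rw [← Kum.mk_cf hN p, mapK_mk] at h1
    refine Kum.ext hN fun k => ?_
    have h2 := congrArg (fun q => Kum.cf hN q k) h1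
    simp only [Kum.cf_mk] at h2
    have h5 : Kum.cf hN (0 : Kum Γ(X, U.1) N f) k = 0 := by simp [Kum.cf]
    rw [h5]
    refine res_injective hle (h2.trans ?_)
    rw [map_zero]
    simp [Kum.cf]
  have hfrac : ∀ c, ∃ (b : Γ(X, U.1)) (p : Kum Γ(X, U.1) N f),
      b ≠ 0 ∧ ψ (AdjoinRoot.of _ b) * c = ψ p := by
    intro c
    obtain ⟨p', hp'⟩ := hψ'.2 ((Y.presheaf.map (homOfLE (π.preimage_mono hle)).op).hom c)
    haveI := U.2.isLocalization_basicOpen g
    obtain ⟨⟨b, m, rfl⟩, hb⟩ := IsLocalization.exist_integer_multiples_of_finite (Submonoid.powers g)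
      (S := Γ(X, X.basicOpen g)) (fun k => Kum.cf hN p' k)
    choose a ha using hb
    have h1 : (Y.presheaf.map (homOfLE (π.preimage_mono hle)).op).hom
        ((π.app U.1).hom (g ^ m) * c - ψ (Kum.mk f a)) = 0 := by
      rw [map_sub, map_mul, ← hψof, hcomm, hcomm, ← hp', ← map_mul, ← map_sub, mapK_mk]
      refine Eq.trans (congrArg ψ' ?_) (map_zero ψ')
      rw [sub_eq_zero, mapK, Kum.lift_of, RingHom.comp_apply]
      conv_lhs => rw [← Kum.mk_cf hN p']
      rw [Kum.of_mul_mk]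
      congr 1
      funext k
      exact (Algebra.smul_def _ _).symm.trans (ha k).symm
    haveI : IsLocalization.Away ((π.app U.1).hom g) Γ(Y, Y.basicOpen ((π.app U.1).hom g)) :=
      (U.2.preimage π).isLocalization_basicOpen _
    have h2 : (algebraMap Γ(Y, π ⁻¹ᵁ U.1) Γ(Y, Y.basicOpen ((π.app U.1).hom g)))
        ((π.app U.1).hom (g ^ m) * c - ψ (Kum.mk f a)) = 0 := by
      have e1 : Y.basicOpen ((π.app U.1).hom g) ≤ π ⁻¹ᵁ X.basicOpen g := (π.preimage_basicOpen g).ge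
      have h3 := congrArg (Y.presheaf.map (homOfLE e1).op).hom h1
      rw [map_zero, ← ConcreteCategory.comp_apply, ← Functor.map_comp] at h3
      exact h3
    rw [IsLocalization.map_eq_zero_iff (Submonoid.powers ((π.app U.1).hom g))] at h2
    obtain ⟨⟨_, n, rfl⟩, hn⟩ := h2
    refine ⟨g ^ m, Kum.mk f a, pow_ne_zero _ hg0, ?_⟩
    rw [hψof, ← sub_eq_zero]
    refine htf (g ^ n) _ (pow_ne_zero _ hg0) ?_
    rw [hψof, map_pow]
    exact hn
  exact ⟨ψ, rfl, hψinj, hψof, AdjoinRoot.lift_root _, htf, hfrac⟩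

theorem exists_good {k : Type u} [Field k] (f : X ⟶ Spec (CommRingCat.of k)) [Smooth f]
    (hL : PicF.IsInvertible L) (hN : 0 < N) (hNk : (N : k) ≠ 0) {ζ : k} (hζ : IsPrimitiveRoot ζ N)
    (hnX : Pi1.IsNormalScheme X) {r : ℕ} (D : Fin r → X.IdealSheafData) (α : Fin r → ℕ) (hD : LogNCD.IsNCD D f)
    (hs : CycCov.IsZeroDiv (CohB1.tensorPow L N) s (CycCov.divIdeal D α))
    {R : CycCov.Root L N s π} (hR : CycCov.IsCover R) {O : X.Opens} {x : X} (hx : x ∈ O) :
    ∃ V : X.affineOpens, x ∈ V.1 ∧ V.1 ≤ O ∧ Nonempty (Good R D α V) := by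
  classical
  haveI := hR.1
  obtain ⟨U₁, e₁, hxU₁, he₁⟩ := exists_isGen hL x
  obtain ⟨U, hle, n, φ, emb, hxU, hUU', hφC, hφet, hemb, hthr, hoff⟩ :=
    LiftLib.NCDChart.exists_chart f D hD x (O ⊓ U₁) ⟨hx, hxU₁⟩ ⟨⊤, isAffineOpen_top _⟩ trivial
  have hUU₁ : U.1 ≤ U₁ := hUU'.trans inf_le_right
  refine ⟨U, hxU, hUU'.trans inf_le_left, ?_⟩
  haveI : Nonempty U.1 := ⟨⟨x, hxU⟩⟩
  haveI : IsIntegrallyClosed Γ(X, U.1) := isIntegrallyClosed_of_normal hnX U.1
  let κ : k →+* Γ(X, U.1) := ((Scheme.ΓSpecIso (CommRingCat.of k)).inv ≫ f.appLE ⊤ U.1 le_top).hom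
  haveI : IsReduced Γ(Spec (CommRingCat.of k), ⊤) :=
    isReduced_of_injective (Scheme.ΓSpecIso (CommRingCat.of k)).commRingCatIsoToRingEquiv.toRingHom
      (RingEquiv.injective _)
  haveI : IsDomain Γ(Spec (CommRingCat.of k), ⊤) :=
    ((Scheme.ΓSpecIso (CommRingCat.of k)).commRingCatIsoToRingEquiv).toMulEquiv.isDomain_iff.2 inferInstance
  letI := φ.toAlgebra
  haveI : Algebra.Etale (MvPolynomial (Fin n) Γ(Spec (CommRingCat.of k), ⊤)) Γ(X, U.1) :=
    RingHom.etale_algebraMap.1 hφet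
  let t : Fin r → Γ(X, U.1) := fun j => if h : x ∈ (D j).support then φ (MvPolynomial.X (emb ⟨j, h⟩)) else 1
  have ht0 : ∀ j, t j ≠ 0 := fun j => by
    by_cases h : x ∈ (D j).support
    · simp only [t, dif_pos h]
      intro h0
      have h1 := EtRamLib.Kummer.Basis.mem_map_of_mul_mem (R := Γ(X, U.1))
        (⊥ : Ideal (MvPolynomial (Fin n) Γ(Spec (CommRingCat.of k), ⊤))) (MvPolynomial.X (emb ⟨j, h⟩))
        (fun z hz => by simpa [MvPolynomial.X_ne_zero] using hz) 1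
        (by rw [mul_one, Ideal.map_bot, Ideal.mem_bot]; exact h0)
      rw [Ideal.map_bot, Ideal.mem_bot] at h1
      exact one_ne_zero h1
    · simp only [t, dif_neg h]; exact one_ne_zero
  have hDt : ∀ j, (D j).ideal U = Ideal.span {t j} := fun j => by
    by_cases h : x ∈ (D j).support
    · simp only [t, dif_pos h]; exact hthr ⟨j, h⟩
    · simp only [t, dif_neg h]; rw [hoff j h, Ideal.span_singleton_one]
  have hdiv : ∀ β : Fin r → ℕ, (CycCov.divIdeal D β).ideal U = Ideal.span {∏ j, t j ^ β j} := fun β => by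
    rw [CycCov.divIdeal, prod_ideal, ← Ideal.prod_span_singleton]
    exact Finset.prod_congr rfl fun j _ => by
      rw [Scheme.IdealSheafData.ideal_pow, Pi.pow_apply, hDt, Ideal.span_singleton_pow]
  have hT : (Ideal.span {∏ j, t j}).IsRadical := by
    haveI : Fintype (LogNCD.Through D x) := Fintype.ofInjective (fun i => i.1) Subtype.val_injective
    let S : Finset (Fin n) := (Finset.univ : Finset (LogNCD.Through D x)).image emb
    have hprod : ∏ j, t j = φ (∏ i ∈ S, MvPolynomial.X i) := by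
      rw [map_prod, Finset.prod_image fun a _ b _ h => hemb h]
      have h1 : ∏ j, t j = ∏ j ∈ Finset.univ.filter (fun j => x ∈ (D j).support), t j := by
        rw [Finset.prod_filter]
        exact Finset.prod_congr rfl fun j _ => by by_cases h : x ∈ (D j).support <;> simp [t, h]
      rw [h1, Finset.prod_subtype (p := fun j => x ∈ (D j).support) _ (fun j => by simp)]
      exact Finset.prod_congr rfl fun i _ => dif_pos i.2
    haveI : IsReduced (MvPolynomial (Fin n) Γ(Spec (CommRingCat.of k), ⊤) ⧸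
        Ideal.span {∏ i ∈ S, (MvPolynomial.X i : MvPolynomial (Fin n) Γ(Spec (CommRingCat.of k), ⊤))}) :=
      (Ideal.isRadical_iff_quotient_reduced _).1 (isRadical_prod_X S)
    have h1 := EtRamLib.Kummer.Basis.isReduced_quotient_map (R := Γ(X, U.1))
      (Ideal.span {∏ i ∈ S, (MvPolynomial.X i : MvPolynomial (Fin n) Γ(Spec (CommRingCat.of k), ⊤))})
    rw [Ideal.map_span, Set.image_singleton] at h1
    rw [hprod]
    exact (Ideal.isRadical_iff_quotient_reduced _).2 h1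
  let P : Γ(X, U.1) := ∏ j, t j ^ α j
  have hP0 : P ≠ 0 := Finset.prod_ne_zero_iff.2 fun j _ => pow_ne_zero _ (ht0 j)
  have hI : (CycCov.divIdeal D α).ideal U = Ideal.span {P} := hdiv α
  let e : Γ(L, U.1) := res L hUU₁ e₁
  have he : Props.GenLocus.IsGen L U.1 e := he₁.restrict hUU₁
  have hg : CycCov.IsGen _ U.1 (pw L e N) := isGen_prelude (isGen_pw he N)
  obtain ⟨c, hc⟩ := hg.2 (SecTwist.val s U.1)
  replace hc : SecTwist.val s U.1 = c • pw L e N := hc.symm
  have hz := hs U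
  rw [hI, hc] at hz
  have hc1 : P ∣ c := by
    have h1 : (c • pw L e N : (CohB1.tensorPow L N).val.obj (op U.1)) ∈ Submodule.span Γ(X, U.1) {c • pw L e N} :=
      Submodule.mem_span_singleton_self _
    rw [hz] at h1
    refine Submodule.smul_induction_on (p := fun m => ∀ d : Γ(X, U.1), m = d • pw L e N → P ∣ d) h1 ?_ ?_ c rfl
    · intro a ha m _ d hd
      obtain ⟨d', hd'⟩ := hg.2 m
      rw [← hd', smul_smul] at hd
      rw [← hg.1 hd]
      exact (Ideal.mem_span_singleton.1 ha).mul_right _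
    · intro m₁ m₂ h₁ h₂ d hd
      obtain ⟨d₁, hd₁⟩ := hg.2 m₁
      obtain ⟨d₂, hd₂⟩ := hg.2 m₂
      rw [← hd₁, ← hd₂, ← add_smul] at hd
      rw [← hg.1 hd]
      exact dvd_add (h₁ d₁ hd₁.symm) (h₂ d₂ hd₂.symm)
  obtain ⟨v, rfl⟩ := hc1
  have hv : IsUnit v := by
    have h1 : (P • pw L e N : (CohB1.tensorPow L N).val.obj (op U.1)) ∈
        Submodule.span Γ(X, U.1) {(P * v) • pw L e N} := by
      rw [hz]; exact Submodule.smul_mem_smul (Ideal.mem_span_singleton_self _) trivial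
    obtain ⟨a, ha⟩ := Submodule.mem_span_singleton.1 h1
    rw [smul_smul] at ha
    have h2 := hg.1 ha
    refine IsUnit.of_mul_eq_one_right a (mul_left_cancel₀ hP0 ?_)
    rw [mul_one, mul_left_comm]; exact h2
  rw [mul_comm] at hc
  rw [← lpow_eq_pw] at hc
  obtain ⟨ψ, hψ, hinj, hof, hroot, htf, hfrac⟩ := chart_props' hN hR U e he (v * P) hc
  let τ : Fin N → Γ(X, U.1) := fun i => ∏ j, t j ^ ((i : ℕ) * α j / N)
  have hτ0 : ∀ i, τ i ≠ 0 := fun i => Finset.prod_ne_zero_iff.2 fun j _ => pow_ne_zero _ (ht0 j)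
  obtain ⟨E, hE, hbij⟩ := exists_basis hN
    (show IsUnit (N : Γ(X, U.1)) by simpa using (isUnit_iff_ne_zero.2 hNk).map κ)
    (Finset.prod_ne_zero_iff.2 fun j _ => ht0 j) hT (hζ.map_of_injective κ.injective) ψ hinj
    (fun c => by
      rw [show ψ.comp (AdjoinRoot.of _) = (π.app U.1).hom from RingHom.ext hof]
      exact (π.finite_app U.1 U.2).to_isIntegral c)
    htf hfrac (fun b y n => CycCovRam.dvd_of_pow_dvd (U.2.preimage π) hR.2.1 b y n) τ hτ0
    (fun i => by
      simp only [τ, P, mul_pow, ← Finset.prod_pow, ← pow_mul]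
      refine (Finset.prod_dvd_prod_of_dvd _ _ fun j _ => pow_dvd_pow _ ?_).mul_left _
      rw [mul_comm (α j)]; exact Nat.div_mul_le_self _ _)
    (fun i => by
      simp only [τ, P, mul_pow, ← Finset.prod_pow, ← pow_mul, mul_assoc, ← Finset.prod_mul_distrib, ← pow_succ, ← pow_add]
      refine (hv.pow _).mul_left_dvd.2 (Finset.prod_dvd_prod_of_dvd _ _ fun j _ => pow_dvd_pow _ ?_)
      have h1 := Nat.lt_div_mul_add (a := (i : ℕ) * α j) hN
      rw [mul_comm (α j)]; omega)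
  simp only [hof, hroot] at hE hbij
  exact ⟨⟨e, he, τ, hτ0, fun i => hdiv _, E, hE, hbij, fun b c hb h => htf b c hb (by rwa [hof])⟩⟩

end Groth.Agent.CycCovDec
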