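import Groth.Agent.CycCovDec.Local
import Groth.Agent.CartDiv.Difference
import Groth.Agent.AmpleLib.Twist
import Groth.Agent.ProjTwist.Tensor
import Groth.Agent.CohBase.FlatBC.Global
import Groth.Agent.Omega.Stalks
import Mathlib.CategoryTheory.Limits.Shapes.Biproducts

/-! # The decomposition of the direct image of the structure sheaf of a cyclic cover -/

set_option autoImplicit false
set_option linter.style.haveILetI false
set_option backward.isDefEq.respectTransparency false

universe u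

open CategoryTheory CategoryTheory.Limits AlgebraicGeometry Opposite TopologicalSpace
open OmegaSh (idealSect)

noncomputable section

namespace Groth.Agent.CycCovDec

open Groth.Agent.QCoh Groth.Agent.Props.GenLocus Groth.Agent.Props.GenTensor Groth.Agent.CycCovEt

variable {X Y : Scheme.{u}} [IsIntegral X] {L : X.Modules} {N : ℕ}
  {s : Coh.structureModule X ⟶ CohB1.tensorPow L N} {π : Y ⟶ X} (R : CycCov.Root L N s π)
  {r : ℕ} (D : Fin r → X.IdealSheafData) (α : Fin r → ℕ) {M : X.Modules} (i : Fin N)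
  (φ : CohB1.tensorMod M (CycCov.intPart L D α N i) ≅ Coh.structureModule X)

/-- The pairing of `M` with the integral part. -/
def pairF {V : X.Opens} (l : Γ(CycCov.intPart L D α N i, V)) (m : Γ(M, V)) : Γ(X, V) :=
  φ.hom.app V (tmul m l)

lemma pairF_res {U V : X.Opens} (h : V ≤ U) (l : Γ(CycCov.intPart L D α N i, U)) (m : Γ(M, U)) :
    rres h (pairF D α i φ l m) = pairF D α i φ (res _ h l) (res M h m) := by
  show res (Coh.structureModule X) h (φ.hom.app U (tmul m l)) = _
  rw [← app_res, res_tmul]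
  rfl

lemma pairF_smul_left {V : X.Opens} (a : Γ(X, V)) (l : Γ(CycCov.intPart L D α N i, V)) (m : Γ(M, V)) :
    pairF D α i φ (a • l) m = a * pairF D α i φ l m := by
  rw [pairF, tmul_smul_right, Scheme.Modules.Hom.app_smul]; rfl

lemma pairF_smul_right {V : X.Opens} (a : Γ(X, V)) (l : Γ(CycCov.intPart L D α N i, V)) (m : Γ(M, V)) :
    pairF D α i φ l (a • m) = a * pairF D α i φ l m := by
  rw [pairF, tmul_smul_left, Scheme.Modules.Hom.app_smul]; rfl

lemma pairF_add {V : X.Opens} (l : Γ(CycCov.intPart L D α N i, V)) (m m' : Γ(M, V)) :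
    pairF D α i φ l (m + m') = pairF D α i φ l m + pairF D α i φ l m' := by
  rw [pairF, tmul, TensorProduct.add_tmul]
  exact (congrArg (φ.hom.app V) (map_add _ _ _)).trans (map_add _ _ _)

/-- `y` is the image of `m`. -/
def Rel (U : X.Opens) (m : Γ(M, U)) (y : Γ(Y, π ⁻¹ᵁ U)) : Prop :=
  ∀ (V : X.affineOpens) (h : V.1 ≤ U) (e : Γ(L, V.1)) (he : Props.GenLocus.IsGen L V.1 e)
    (τ : Γ(ClSub.idealMod (CycCov.floorIdeal D α N i), V.1)),
    (π.app V.1).hom (idealSect _ V.1 τ) * (rres (π.preimage_mono h)).hom y =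
      (π.app V.1).hom (pairF D α i φ (tmul (pw L e (i : ℕ)) τ) (res M h m)) * R.t V e (isGen_prelude he) ^ (i : ℕ)

variable {R D α}

lemma Rel.restrict {U U' : X.Opens} (hU : U' ≤ U) {m : Γ(M, U)} {y : Γ(Y, π ⁻¹ᵁ U)} (h : Rel R D α i φ U m y) :
    Rel R D α i φ U' (res M hU m) (rres (π.preimage_mono hU) y) := fun V hV e he τ => by
  rw [res_res, rres_rres]
  exact h V (hV.trans hU) e he τ

/-- The generator of the integral part in a good frame. -/
lemma exists_gen {V : X.affineOpens} [Nonempty V.1] (G : Good R D α V) :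
    ∃ σ : Γ(ClSub.idealMod (CycCov.floorIdeal D α N i), V.1),
      Props.GenLocus.IsGen _ V.1 σ ∧ idealSect _ V.1 σ = G.τ i :=
  CartDiv.Difference.exists_isGen_ideal _ (mem_nonZeroDivisors_of_ne_zero (G.hτ i)) (G.hI i)

theorem rel_iff {V : X.affineOpens} [Nonempty V.1] (G : Good R D α V)
    {σ : Γ(ClSub.idealMod (CycCov.floorIdeal D α N i), V.1)} (hσ : Props.GenLocus.IsGen _ V.1 σ)
    (hσ' : idealSect _ V.1 σ = G.τ i) (m : Γ(M, V.1)) (y : Γ(Y, π ⁻¹ᵁ V.1)) :
    Rel R D α i φ V.1 m y ↔ y = (π.app V.1).hom (pairF D α i φ (tmul (pw L G.e (i : ℕ)) σ) m) * G.E i := by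
  constructor
  · intro h
    have h1 := h V le_rfl G.e G.he σ
    rw [hσ', res_self, rres_self, G.hE i] at h1
    refine sub_eq_zero.1 (G.htf _ _ (G.hτ i) ?_)
    rw [mul_sub, h1]; ring
  · rintro rfl V' h e' he' τ
    obtain ⟨d, hd, -⟩ := hσ.exists_eq h τ
    obtain ⟨b, hb, -⟩ := he'.exists_eq le_rfl (res L h G.e)
    rw [res_self] at hb
    have hbg : CycCov.IsGen L V'.1 (b • e') := by rw [← hb]; exact isGen_prelude (G.he.restrict h)
    have ht := R.t_smul V' e' (isGen_prelude he') b hbg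
    have ht2 : (rres (π.preimage_mono h)).hom (R.t V G.e (isGen_prelude G.he)) = R.t V' (b • e') hbg := by
      refine (R.t_res V V' h G.e _ (isGen_prelude (G.he.restrict h))).trans ?_
      congr 1
    let p' := pairF D α i φ (tmul (pw L e' (i : ℕ)) (res _ h σ)) (res M h m)
    have hp : rres h (pairF D α i φ (tmul (pw L G.e (i : ℕ)) σ) m) = b ^ (i : ℕ) * p' := by
      rw [pairF_res]
      erw [res_tmul]
      rw [res_pw, hb, pw_smul]
      erw [tmul_smul_left, pairF_smul_left]
    have hτ : idealSect _ V'.1 τ = d * rres h (G.τ i) := by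
      rw [hd, Omega.Stalks.idealSect_smul]
      erw [Omega.Stalks.idealSect_map]
      rw [hσ']
    have hp2 : pairF D α i φ (tmul (pw L e' (i : ℕ)) τ) (res M h m) = d * p' := by
      rw [hd]; erw [tmul_smul_right, pairF_smul_left]
    have hnat : ∀ a, (rres (π.preimage_mono h)).hom ((π.app V.1).hom a) = (π.app V'.1).hom (rres h a) := fun a =>
      (congrArg (fun φ => φ.hom a) (π.naturality (homOfLE h).op)).symm
    have hE := congrArg (rres (π.preimage_mono h)).hom (G.hE i)
    rw [map_pow, map_mul, hnat, ht2] at hE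
    rw [hτ, hp2, map_mul (rres _).hom, hnat, hp, ← ht, mul_pow, map_mul, map_mul, map_mul, map_pow]
    calc (π.app V'.1).hom d * (π.app V'.1).hom (rres h (G.τ i)) *
          ((π.app V'.1).hom b ^ (i : ℕ) * (π.app V'.1).hom p' * (rres (π.preimage_mono h)).hom (G.E i))
        = (π.app V'.1).hom d * (π.app V'.1).hom b ^ (i : ℕ) * (π.app V'.1).hom p' *
          ((π.app V'.1).hom (rres h (G.τ i)) * (rres (π.preimage_mono h)).hom (G.E i)) := by ring
      _ = _ := by rw [← hE]; ring

theorem hom_and_formula (hgood : ∀ (O : X.Opens), ∀ x ∈ O, ∃ V : X.affineOpens, x ∈ V.1 ∧ V.1 ≤ O ∧ Nonempty (Good R D α V)) :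
    ∃ c : M ⟶ (Scheme.Modules.pushforward π).obj (Coh.structureModule Y),
      ∀ (U : X.Opens) (m : Γ(M, U)), Rel R D α i φ U m (c.app U m) := by
  have huniq : ∀ (U : X.Opens) (m : Γ(M, U)) y y', Rel R D α i φ U m y → Rel R D α i φ U m y' → y = y' := by
    intro U m y y' hy hy'
    choose V hxV hVU G using fun x : U => hgood U x.1 x.2
    refine TopCat.Sheaf.eq_of_locally_eq' Y.sheaf (fun x : U => π ⁻¹ᵁ (V x).1) (π ⁻¹ᵁ U)
      (fun x => homOfLE (π.preimage_mono (hVU x))) (fun z hz => Opens.mem_iSup.2 ⟨⟨π z, hz⟩, hxV ⟨π z, hz⟩⟩) y y' fun x => ?_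
    haveI : Nonempty (V x).1 := ⟨⟨x.1, hxV x⟩⟩
    obtain ⟨σ, hσ, hσ'⟩ := exists_gen i (G x).some
    exact ((rel_iff i φ (G x).some hσ hσ' _ _).1 (hy.restrict i φ (hVU x))).trans
      ((rel_iff i φ (G x).some hσ hσ' _ _).1 (hy'.restrict i φ (hVU x))).symm
  have hex : ∀ (U : X.Opens) (m : Γ(M, U)), ∃ y, Rel R D α i φ U m y := by
    intro U m
    choose V hxV hVU G using fun x : U => hgood U x.1 x.2
    have hloc : ∀ x : U, ∃ y, Rel R D α i φ (V x).1 (res M (hVU x) m) y := fun x => by
      haveI : Nonempty (V x).1 := ⟨⟨x.1, hxV x⟩⟩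
      obtain ⟨σ, hσ, hσ'⟩ := exists_gen i (G x).some
      exact ⟨_, (rel_iff i φ (G x).some hσ hσ' _ _).2 rfl⟩
    choose y hy using hloc
    obtain ⟨z, hz, -⟩ := TopCat.Sheaf.existsUnique_gluing' Y.sheaf (fun x : U => π ⁻¹ᵁ (V x).1) (π ⁻¹ᵁ U)
      (fun x => homOfLE (π.preimage_mono (hVU x))) (fun z hz => Opens.mem_iSup.2 ⟨⟨π z, hz⟩, hxV ⟨π z, hz⟩⟩) y
      fun x x' => huniq ((V x).1 ⊓ (V x').1) (res M (inf_le_left.trans (hVU x)) m) _ _
        (by have h1 := (hy x).restrict i φ (inf_le_left : (V x).1 ⊓ (V x').1 ≤ (V x).1); rw [res_res] at h1; exact h1)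
        (by have h1 := (hy x').restrict i φ (inf_le_right : (V x).1 ⊓ (V x').1 ≤ (V x').1); rw [res_res] at h1; exact h1)
    refine ⟨z, fun W hW e he τ => ?_⟩
    refine TopCat.Sheaf.eq_of_locally_eq' Y.sheaf (fun x : U => π ⁻¹ᵁ ((V x).1 ⊓ W.1)) (π ⁻¹ᵁ W.1)
      (fun x => homOfLE (π.preimage_mono inf_le_right))
      (fun q hq => Opens.mem_iSup.2 ⟨⟨π q, hW hq⟩, hxV ⟨π q, hW hq⟩, hq⟩) _ _ fun x => ?_
    -- shrink to a good open
    choose V' hxV' hV' G' using fun q : ((V x).1 ⊓ W.1 : X.Opens) => hgood _ q.1 q.2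
    refine TopCat.Sheaf.eq_of_locally_eq' Y.sheaf (fun q : ((V x).1 ⊓ W.1 : X.Opens) => π ⁻¹ᵁ (V' q).1)
      (π ⁻¹ᵁ ((V x).1 ⊓ W.1)) (fun q => homOfLE (π.preimage_mono (hV' q)))
      (fun q hq => Opens.mem_iSup.2 ⟨⟨π q, hq⟩, hxV' ⟨π q, hq⟩⟩) _ _ fun q => ?_
    have hle : (V' q).1 ≤ W.1 := (hV' q).trans inf_le_right
    have hle' : (V' q).1 ≤ (V x).1 := (hV' q).trans inf_le_left
    show (rres (π.preimage_mono (hV' q))).hom ((rres (π.preimage_mono inf_le_right)).hom _) =
      (rres (π.preimage_mono (hV' q))).hom ((rres (π.preimage_mono inf_le_right)).hom _)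
    rw [rres_rres, rres_rres, map_mul (rres _).hom, map_mul (rres _).hom, map_pow (rres _).hom]
    have hnat : ∀ a, (rres (π.preimage_mono hle)).hom ((π.app W.1).hom a) = (π.app (V' q).1).hom (rres hle a) := fun a =>
      (congrArg (fun φ => φ.hom a) (π.naturality (homOfLE hle).op)).symm
    have hyz : (rres (π.preimage_mono hle)).hom ((rres (π.preimage_mono hW)).hom z) =
        (rres (π.preimage_mono hle')).hom (y x) := by
      rw [← hz x]
      show _ = (rres (π.preimage_mono hle')).hom ((rres (π.preimage_mono (hVU x))).hom z)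
      rw [rres_rres, rres_rres]
    have hte : (rres (π.preimage_mono hle)).hom (R.t W e (isGen_prelude he)) =
        R.t (V' q) (res L hle e) (isGen_prelude (he.restrict hle)) := R.t_res W (V' q) hle e _ _
    rw [hnat, hnat, hyz, hte]
    have h1 := hy x (V' q) hle' (res L hle e) (he.restrict hle) (res _ hle τ)
    erw [Omega.Stalks.idealSect_map] at h1
    refine h1.trans ?_
    rw [pairF_res]
    erw [res_tmul]
    rw [res_pw, res_res, res_res]
  choose F hF using hex
  refine ⟨⟨PresheafOfModules.homMk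
    { app := fun U => AddCommGrpCat.ofHom (AddMonoidHom.mk' (G := Γ((Scheme.Modules.pushforward π).obj (Coh.structureModule Y), U.unop))
        (F U.unop) fun a b => huniq _ _ _ _ (hF _ _) fun V h e he τ => ?_)
      naturality := fun {U V} g => by
        ext m
        exact huniq _ _ _ _ (hF _ _) ((hF U.unop m).restrict i φ g.unop.le) }
    (fun U a m => huniq _ _ _ _ (hF _ _) fun V h e he τ => ?_)⟩, fun U m => hF U m⟩
  · show _ * (rres (π.preimage_mono h)).hom (F U.unop a + F U.unop b) = _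
    rw [map_add, map_add, pairF_add, map_add, mul_add, add_mul, hF _ a V h e he τ, hF _ b V h e he τ]
  · show _ * (rres (π.preimage_mono h)).hom ((π.app U.unop).hom a * F U.unop m) = _
    rw [map_mul, show (rres (π.preimage_mono h)).hom ((π.app U.unop).hom a) = (π.app V.1).hom (rres h a) from
      (congrArg (fun φ => φ.hom a) (π.naturality (homOfLE h).op)).symm]
    erw [res_smul, pairF_smul_right]
    rw [map_mul, mul_left_comm, hF _ m V h e he τ, mul_assoc]

lemma sum_app_apply {ι : Type*} (S : Finset ι) {A B : X.Modules} (ψ : ι → (A ⟶ B)) (U : X.Opens) (x : Γ(A, U)) :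
    (∑ l ∈ S, ψ l).app U x = ∑ l ∈ S, (ψ l).app U x := by
  classical
  induction S using Finset.induction_on with
  | empty => simp only [Finset.sum_empty, Scheme.Modules.Hom.zero_app]; rfl
  | insert a S ha ih =>
    rw [Finset.sum_insert ha, Finset.sum_insert ha, Scheme.Modules.Hom.add_app, ← ih]
    rfl

/-- The inclusions form a coproduct. -/
theorem exists_isColimit (hgood : ∀ (O : X.Opens), ∀ x ∈ O, ∃ V : X.affineOpens, x ∈ V.1 ∧ V.1 ≤ O ∧ Nonempty (Good R D α V))
    (M : Fin N → X.Modules) (hM : ∀ i : Fin N, ClSub.IsInverseOf (CycCov.intPart L D α N i) (M i)) :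
    ∃ c : ∀ i : Fin N, M i ⟶ (Scheme.Modules.pushforward π).obj (Coh.structureModule Y),
      Nonempty (IsColimit (Cofan.mk ((Scheme.Modules.pushforward π).obj (Coh.structureModule Y)) c)) := by
  let φ := fun i => ProjTwist.tensComm (M i) (CycCov.intPart L D α N i) ≪≫ (hM i).some
  choose c hc using fun i => hom_and_formula (R := R) i (φ i) hgood
  refine ⟨c, ?_⟩
  let Φ : ⨁ M ⟶ (Scheme.Modules.pushforward π).obj (Coh.structureModule Y) := biproduct.desc c
  haveI : IsIso Φ := by
    refine CohBase.FlatBC.isIso_of_basis_bijective Φ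
      (fun W => ∃ (hW : IsAffineOpen W), Nonempty W ∧ Nonempty (Good R D α ⟨W, hW⟩))
      (fun O x hx => by
        obtain ⟨V, hxV, hVO, hG⟩ := hgood O x hx
        exact ⟨V.1, ⟨V.2, ⟨⟨x, hxV⟩⟩, hG⟩, hxV, hVO⟩) ?_
    rintro W ⟨hW, hne, ⟨G⟩⟩
    haveI := hne
    let V : X.affineOpens := ⟨W, hW⟩
    choose σ hσ hσ' using fun i => exists_gen (R := R) i G
    let g := fun i : Fin N => tmul (pw L G.e (i : ℕ)) (σ i)
    have hbij : ∀ i, Function.Bijective (fun m : Γ(M i, W) => pairF D α i (φ i) (g i) m) := fun i => by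
      have hg : Props.GenLocus.IsGen (CycCov.intPart L D α N i) W (g i) := isGen_tmul (isGen_pw G.he _) (hσ i)
      have h1 := AmpleLib.tmul_gen_bijective hg (M i) (le_refl W)
      simp only [res_self] at h1
      exact (ConcreteCategory.bijective_of_isIso ((φ i).hom.app W)).comp h1
    have hform : ∀ x : Γ(⨁ M, W), Φ.app W x =
        ∑ i, (π.app W).hom (pairF D α i (φ i) (g i) ((biproduct.π M i).app W x)) * G.E i := fun x => by
      have hsum : Φ = ∑ i, biproduct.π M i ≫ c i := biproduct.hom_ext' _ _ fun j => by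
        simp [Φ, Preadditive.comp_sum, biproduct.ι_π_assoc, dite_comp]
      rw [hsum]
      simp only [sum_app_apply,
        Scheme.Modules.Hom.comp_app, ConcreteCategory.comp_apply]
      exact Finset.sum_congr rfl fun i _ => (rel_iff i (φ i) G (hσ i) (hσ' i) _ _).1 (hc i W _)
    refine ⟨fun x x' h => ?_, fun y => ?_⟩
    · rw [hform, hform] at h
      have hz := G.bij.1 h
      have hx : ∀ z : Γ(⨁ M, W), z = ∑ i, (biproduct.ι M i).app W ((biproduct.π M i).app W z) := fun z => by
        have := congrArg (fun ψ : ⨁ M ⟶ ⨁ M => ψ.app W z) (biproduct.total (f := M))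
        simp only [sum_app_apply,
          Scheme.Modules.Hom.comp_app, ConcreteCategory.comp_apply, Scheme.Modules.Hom.id_app] at this
        exact this.symm
      rw [hx x, hx x']
      exact Finset.sum_congr rfl fun i _ => congrArg _ ((hbij i).1 (congrFun hz i))
    · obtain ⟨z, hz⟩ := G.bij.2 y
      choose m hm using fun i => (hbij i).2 (z i)
      refine ⟨∑ j, (biproduct.ι M j).app W (m j), ?_⟩
      rw [hform, ← hz]
      refine Finset.sum_congr rfl fun i _ => ?_
      congr 2
      rw [← hm i, map_sum, Finset.sum_eq_single i]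
      · show pairF D α i (φ i) (g i) (((biproduct.ι M i ≫ biproduct.π M i)).app W (m i)) = _
        rw [biproduct.ι_π_self]
        rfl
      · intro j _ hj
        show ((biproduct.ι M j ≫ biproduct.π M i)).app W (m j) = 0
        rw [biproduct.ι_π_ne M hj]
        rfl
      · simp
  refine ⟨(biproduct.isColimit M).ofIsoColimit (Cofan.ext (asIso Φ) fun i => ?_)⟩
  simp [Φ]

end Groth.Agent.CycCovDec
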